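import Mathlib.RingTheory.Ideal.Pure
import Mathlib.RingTheory.Ideal.GoingDown
import Mathlib.RingTheory.Unramified.LocalStructure
import Mathlib.RingTheory.Unramified.Finite
import Mathlib.RingTheory.Smooth.Fiber
import Mathlib.RingTheory.Smooth.Flat
import Mathlib.RingTheory.Flat.Stability
import Mathlib.RingTheory.Spectrum.Prime.Topology
import Mathlib.RingTheory.RingHom.Etale

/-!
# Flat + unramified of finite type is étale over rings with finitely many minimal primes
-/

set_option autoImplicit false
universe u

namespace Groth.Agent.FlatUnram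

open PrimeSpectrum

/-- A pure ideal of a ring with finitely many minimal primes is finitely generated. -/
theorem fg_of_pure {R : Type u} [CommRing R] (hfin : (minimalPrimes R).Finite) (I : Ideal R) [I.Pure] : I.FG := by
  have hgen : ∀ (P q : Ideal R), P.IsPrime → q.IsPrime → P ≤ q → I ≤ q → I ≤ P := by
    intro P q hP hq hPq hIq x hx
    obtain ⟨y, hy, hxy⟩ := Ideal.exists_eq_mul_of_pure hx
    have h0 : (1 - y) * x = 0 := by rw [sub_mul, one_mul, mul_comm y x, ← hxy, sub_self]
    have : (1 - y) * x ∈ P := by rw [h0]; exact zero_mem _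
    refine (hP.mem_or_mem this).resolve_left fun h => hq.one_notMem ?_
    have := q.add_mem (hPq h) (hIq hy)
    rwa [sub_add_cancel] at this
  have hcompl : (zeroLocus (I : Set R))ᶜ = ⋃ P ∈ {P ∈ minimalPrimes R | ¬ I ≤ P}, zeroLocus (P : Set R) := by
    ext q
    simp only [Set.mem_compl_iff, mem_zeroLocus, SetLike.coe_subset_coe, Set.mem_iUnion, Set.mem_sep_iff,
      exists_prop]
    constructor
    · intro hq
      obtain ⟨P, hP, hPq⟩ := Ideal.exists_minimalPrimes_le (bot_le : (⊥ : Ideal R) ≤ q.asIdeal)
      exact ⟨P, ⟨hP, fun h => hq (h.trans hPq)⟩, hPq⟩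
    · rintro ⟨P, ⟨hP, hIP⟩, hPq⟩ hq
      exact hIP (hgen P q.asIdeal hP.1.1 q.2 hPq hq)
  have hclopen : IsClopen (zeroLocus (I : Set R)) := by
    refine ⟨isClosed_zeroLocus _, ?_⟩
    rw [← isClosed_compl_iff, hcompl]
    exact (hfin.subset fun P hP => hP.1).isClosed_biUnion fun P _ => isClosed_zeroLocus _
  obtain ⟨e, he, heq⟩ := isClopen_iff_zeroLocus.mp hclopen
  haveI : (Ideal.span {e}).Pure := Ideal.Pure.of_isIdempotentElem (Submodule.fg_span_singleton e) (by
    rw [IsIdempotentElem, Ideal.span_singleton_mul_span_singleton, he.eq])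
  have : I = Ideal.span {e} := Ideal.zeroLocus_inj_of_pure.mp (by rw [heq, zeroLocus_span])
  exact this ▸ Submodule.fg_span_singleton e

/-- Minimal primes of a flat quasi-finite algebra over a ring with finitely many of them. -/
theorem finite_minimalPrimes (A R : Type u) [CommRing A] [CommRing R] [Algebra A R] [Module.Flat A R]
    [Algebra.QuasiFinite A R] (hfin : (minimalPrimes A).Finite) : (minimalPrimes R).Finite := by
  have : minimalPrimes R ⊆ ⋃ p ∈ minimalPrimes A, p.primesOver R := by
    intro P hP
    haveI : P.IsPrime := hP.1.1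
    refine Set.mem_biUnion (x := P.under A) ?_ ⟨inferInstance, ⟨rfl⟩⟩
    refine ⟨⟨inferInstance, bot_le⟩, fun p hp hle => ?_⟩
    haveI : p.IsPrime := hp.1
    obtain ⟨P', hle', hP', hover⟩ := Ideal.exists_ideal_le_liesOver_of_le (p := p) (q := P.under A) P hle
    have : P ≤ P' := hP.2 ⟨hP', bot_le⟩ hle'
    exact (le_antisymm this hle') ▸ hover.over.ge
  exact (hfin.biUnion fun p _ => Algebra.QuasiFinite.finite_primesOver p).subset this

theorem etale_away_of_surjection (A R C : Type u) [CommRing A] [CommRing R] [CommRing C] [Algebra A R]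
    [Algebra A C] [Algebra.Etale A R] [Module.Flat A C] [Algebra.FormallyUnramified A C]
    (hfin : (minimalPrimes A).Finite)
    (φ : R →ₐ[A] C) (hφ : Function.Surjective φ) : Algebra.Etale A C := by
  have hflat : Module.Flat R (R ⧸ RingHom.ker φ.toRingHom) := by
    letI := φ.toRingHom.toAlgebra
    haveI : IsScalarTower A R C := IsScalarTower.of_algebraMap_eq (fun x => (φ.commutes x).symm)
    haveI : Module.Flat R C := Algebra.FormallyUnramified.flat_of_restrictScalars A R C
    exact Module.Flat.of_linearEquiv (Ideal.quotientKerAlgEquivOfSurjective (f := Algebra.ofId R C) hφ).toLinearEquiv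
  haveI : (RingHom.ker φ.toRingHom).Pure := hflat
  have hfg := fg_of_pure (finite_minimalPrimes A R hfin) (RingHom.ker φ.toRingHom)
  haveI : Algebra.FinitePresentation A C := Algebra.FinitePresentation.of_surjective hφ hfg
  exact Algebra.Etale.of_formallyUnramified_of_flat

theorem etale_of_flat_of_formallyUnramified (A B : Type u) [CommRing A] [CommRing B] [Algebra A B]
    [Algebra.FiniteType A B] [Module.Flat A B] [Algebra.FormallyUnramified A B]
    (hfin : (minimalPrimes A).Finite) : Algebra.Etale A B := by
  choose f hf hS using fun q : PrimeSpectrum B => Algebra.IsUnramifiedAt.exists_hasStandardEtaleSurjectionOn (R := A) q.asIdeal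
  have hspan : Ideal.span (Set.range f) = ⊤ := by
    by_contra h
    obtain ⟨m, hm, hle⟩ := Ideal.exists_le_maximal _ h
    exact hf ⟨m, hm.isPrime⟩ (hle (Ideal.subset_span ⟨_, rfl⟩))
  rw [← RingHom.etale_algebraMap]
  refine RingHom.Etale.ofLocalizationSpanTarget (algebraMap A B) (Set.range f) hspan ?_
  rintro ⟨_, q, rfl⟩
  rw [← IsScalarTower.algebraMap_eq, RingHom.etale_algebraMap]
  obtain ⟨P, φ, hφ⟩ := hS q
  haveI : Module.Flat A (Localization.Away (f q)) := Module.Flat.trans A B _
  exact etale_away_of_surjection A P.Ring (Localization.Away (f q)) hfin φ hφ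

end Groth.Agent.FlatUnram
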